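import Cfsg.Agent.Chars.Basic
import Cfsg.Agent.Chars.GaloisHom.Basic
import Cfsg.Agent.Blocks.HeightZero.RegularPair
import Cfsg.Agent.Blocks.LocalDivisibility
import Cfsg.Agent.Blocks.Orth.Blocks
import Mathlib.Data.Nat.Choose.Factorization

/-!
# Schur's bound on the Sylow order of a `p`-rational linear group
-/

set_option autoImplicit false

namespace CfsgLib.SchurBound

open Cfsg CfsgLib.Chars Polynomial
open scoped ComplexConjugate

variable {G : Type*} [Group G] [Finite G]

theorem isCharacter_pow {χ : G → ℂ} (h : IsCharacter G χ) (j : ℕ) :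
    IsCharacter G (fun g => χ g ^ j) := by
  induction j with
  | zero => simp only [pow_zero]; exact isCharacter_one
  | succ j ih =>
    simp only [pow_succ]
    exact isCharacter_mul ih h

/-- A `p`-rational character is fixed by the powers prime to `p` on a `p`-element. -/
theorem apply_pow_eq {p : ℕ} (hp : p.Prime) {χ : G → ℂ} (hχ : IsCharacter G χ)
    {r : ℕ} (hr0 : 0 < r) (hr : ¬ p ∣ r)
    (hrat : ∀ g : G,
      χ g ∈ IntermediateField.adjoin ℚ ({Complex.exp (2 * Real.pi * Complex.I / r)} : Set ℂ))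
    {g : G} {i : ℕ} (hg : orderOf g = p ^ i) {j : ℕ} (hj : ¬ p ∣ j) : χ (g ^ j) = χ g := by
  have hcop : (p ^ i).Coprime r := (hp.coprime_iff_not_dvd.2 hr).pow_left i
  obtain ⟨k, hk1, hk2⟩ := Nat.chineseRemainder hcop j 1
  have hk : k.Coprime (p ^ i * r) := by
    refine Nat.Coprime.mul_right ?_ ?_
    · show Nat.gcd k (p ^ i) = 1
      rw [hk1.gcd_eq]
      exact (hp.coprime_iff_not_dvd.2 hj).symm.pow_right i
    · show Nat.gcd k r = 1
      rw [hk2.gcd_eq, Nat.gcd_one_left]
  obtain ⟨σ, hσ⟩ := GaloisHom.exists_ringHom_pow (Nat.mul_pos (pow_pos hp.pos i) hr0) hk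
  set ζ := Complex.exp (2 * Real.pi * Complex.I / r)
  have hζ : ζ ^ r = 1 := (Complex.isPrimitiveRoot_exp r hr0.ne').pow_eq_one
  have hσζ : σ ζ = ζ := by
    rw [hσ ζ (by rw [mul_comm, pow_mul, hζ, one_pow])]
    rw [pow_eq_pow_mod k hζ, hk2, ← pow_eq_pow_mod 1 hζ, pow_one]
  have hfix : ∀ z ∈ IntermediateField.adjoin ℚ ({ζ} : Set ℂ), σ z = z := by
    intro z hz
    induction hz using IntermediateField.adjoin_induction with
    | mem x hx => rw [Set.mem_singleton_iff.1 hx]; exact hσζ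
    | algebraMap q => rw [eq_ratCast, map_ratCast]
    | add x y _ _ hx hy => rw [map_add, hx, hy]
    | inv x _ hx => rw [map_inv₀, hx]
    | mul x y _ _ hx hy => rw [map_mul, hx, hy]
  obtain ⟨s, h1, -, h3⟩ := exists_roots hχ g
  have e := h3 1
  simp only [pow_one, Multiset.map_id'] at e
  calc χ (g ^ j) = χ (g ^ k) := by
        congr 1
        exact pow_eq_pow_iff_modEq.2 (hg ▸ hk1.symm)
    _ = σ (χ g) := by
        rw [e, h3 k, map_multiset_sum]
        exact congrArg Multiset.sum (Multiset.map_congr rfl fun z hz => (hσ z (by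
          rw [pow_mul, ← hg, h1 z hz, one_pow])).symm)
    _ = χ g := hfix _ (hrat g)

/-- At a nontrivial `p`-element the value is `n - p k` with `1 ≤ k ≤ n / (p - 1)`. -/
theorem exists_value {p : ℕ} (hp : p.Prime) {χ : G → ℂ} {n : ℕ} (hχ : IsCharacter G χ)
    (hf : ∀ g : G, χ g = χ 1 → g = 1) (hn : χ 1 = n) {r : ℕ} (hr0 : 0 < r) (hr : ¬ p ∣ r)
    (hrat : ∀ g : G,
      χ g ∈ IntermediateField.adjoin ℚ ({Complex.exp (2 * Real.pi * Complex.I / r)} : Set ℂ))
    {g : G} {i : ℕ} (hg : orderOf g = p ^ (i + 1)) :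
    ∃ k : ℕ, 1 ≤ k ∧ k ≤ n / (p - 1) ∧ χ g = (((n : ℤ) - p * k : ℤ) : ℂ) := by
  classical
  set C := Subgroup.zpowers g
  haveI : Fintype C := Fintype.ofFinite C
  set gg : C := ⟨g, Subgroup.mem_zpowers g⟩
  set N : Subgroup C := Subgroup.zpowers (gg ^ p)
  have hogg : orderOf gg = p ^ (i + 1) := by rw [Subgroup.orderOf_mk, hg]
  have hC : Nat.card C = p ^ (i + 1) := by rw [Nat.card_zpowers, hg]
  have hN : Nat.card N = p ^ i := by
    rw [Nat.card_zpowers, orderOf_pow_of_dvd hp.ne_zero (hogg ▸ dvd_pow_self p i.succ_ne_zero), hogg,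
      pow_succ, Nat.mul_div_cancel _ hp.pos]
  haveI : N.Normal := inferInstance
  have hres : IsCharacter C (fun c : C => χ c) := isCharacter_restrict hχ C
  have hval : ∀ c : C, c ∉ N → χ c = χ g := by
    intro c hc
    obtain ⟨j, hj⟩ := mem_powers_iff_mem_zpowers.2 c.2
    have hjp : ¬ p ∣ j := by
      rintro ⟨d, rfl⟩
      apply hc
      have e : c = (gg ^ p) ^ d := Subtype.ext (by rw [← pow_mul]; exact hj.symm)
      rw [e]
      exact pow_mem (Subgroup.mem_zpowers _) d
    rw [← hj]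
    exact apply_pow_eq hp hχ hr0 hr hrat hg hjp
  set S : Finset (IrrCharacter C) :=
    Finset.univ.filter fun ψ : IrrCharacter C => N ≤ charKer (ψ : C → ℂ)
  have hlin : ∀ ψ : IrrCharacter C, (ψ : C → ℂ) 1 = 1 := map_one_eq_one_of_isMulCommutative
  have hSc : S.card = p := by
    have h := sum_charDegree_sq_of_le_charKer N
    have hd : ∀ ψ : IrrCharacter C, charDegree (ψ : C → ℂ) = 1 := fun ψ =>
      charDegree_eq_of_map_one (n := 1) (by rw [hlin ψ, Nat.cast_one])
    simp only [hd, one_pow] at h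
    rw [← Finset.card_eq_sum_ones] at h
    rw [h]
    have h2 := N.index_mul_card
    rw [hN, hC, pow_succ, mul_comm (p ^ i) p] at h2
    exact Nat.eq_of_mul_eq_mul_right (pow_pos hp.pos i) h2
  set W : ℂ := ((Nat.card C : ℂ))⁻¹ * ∑ c : C, if c ∈ N then χ c - χ g else 0
  have hinner : ∀ ψ ∈ S, classInner (fun c : C => χ c) (ψ : C → ℂ) =
      W + χ g * if ψ = oneChar C then 1 else 0 := by
    intro ψ hψ
    have hψN : ∀ c ∈ N, (ψ : C → ℂ) c = 1 := fun c hc => by
      rw [map_eq_map_one_of_mem_charKer ((Finset.mem_filter.1 hψ).2 hc), hlin]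
    have hone : classInner (fun _ : C => (1 : ℂ)) (ψ : C → ℂ) = if ψ = oneChar C then 1 else 0 := by
      rw [← oneChar_coe, classInner_irr]
      by_cases h : ψ = oneChar C
      · rw [if_pos h, if_pos h.symm]
      · rw [if_neg h, if_neg (fun e => h e.symm)]
    rw [← hone]
    simp only [classInner, W, ← mul_assoc, mul_comm (χ g) ((Nat.card C : ℂ))⁻¹]
    rw [mul_assoc, Finset.mul_sum (s := Finset.univ) (a := χ g), ← mul_add, ← Finset.sum_add_distrib]
    congr 1
    refine Finset.sum_congr rfl fun c _ => ?_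
    by_cases hc : c ∈ N
    · simp [hψN c hc, hc]
    · simp [hc, hval c hc]
  have honeS : oneChar C ∈ S := Finset.mem_filter.2 ⟨Finset.mem_univ _, by
    rw [le_charKer_iff (isCharacter_coe _)]; intro x _; simp⟩
  obtain ⟨ψ, hψS, hψ⟩ : ∃ ψ ∈ S, ψ ≠ oneChar C :=
    Finset.exists_mem_ne (hSc ▸ hp.one_lt) _
  obtain ⟨m, hm, hm'⟩ := exists_nat_coeff hres
  have hu : W = (m ψ : ℂ) := by
    rw [← hm', hinner ψ hψS, if_neg hψ, mul_zero, add_zero]
  have ht : W + χ g = (m (oneChar C) : ℂ) := by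
    rw [← hm', hinner _ honeS, if_pos rfl, mul_one]
  set u := m ψ
  set t := m (oneChar C)
  have hv : χ g = (((t : ℤ) - u : ℤ) : ℂ) := by
    push_cast
    rw [← ht, ← hu]; ring
  have hsum : p * u + t ≤ n + u := by
    have h1 : (n : ℂ) = ((∑ φ : IrrCharacter C, m φ : ℕ) : ℂ) := by
      have h := congrFun hm 1
      simp only [Finset.sum_apply, Pi.smul_apply, smul_eq_mul, hlin, mul_one, Subgroup.coe_one] at h
      rw [← hn, h]
      push_cast
      rfl
    rw [Nat.cast_inj] at h1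
    have h2 : ∀ φ ∈ S.erase (oneChar C), m φ = u := fun φ hφ => by
      obtain ⟨hne, hφS⟩ := Finset.mem_erase.1 hφ
      have := hm' φ
      rw [hinner φ hφS, if_neg hne, mul_zero, add_zero, hu, Nat.cast_inj] at this
      exact this.symm
    have h3 := Finset.sum_le_sum_of_subset (f := m) (Finset.subset_univ S)
    rw [← h1, ← Finset.add_sum_erase _ _ honeS, Finset.sum_congr rfl h2, Finset.sum_const,
      Finset.card_erase_of_mem honeS, hSc, smul_eq_mul] at h3
    have : (p - 1) * u + u = p * u := by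
      rw [← Nat.succ_mul, Nat.succ_eq_add_one, Nat.sub_add_cancel hp.pos]
    change t + (p - 1) * u ≤ n at h3
    omega
  obtain ⟨M, hM⟩ := CfsgLib.Blocks.exists_isPModular p hp
  haveI := hM.2.1
  have hdvd : (p : ℤ) ∣ (n : ℤ) - ((t : ℤ) - u) := by
    have h := CfsgLib.Blocks.HeightZero.congr_apply_mul hM hχ (Commute.one_right g) hg
      (by rw [orderOf_one]; exact hp.not_dvd_one)
    rw [mul_one, hn, hv] at h
    rw [← CfsgLib.Blocks.intCast_mem_iff hM, ← CfsgLib.Blocks.memLocalIdeal_coe_iff]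
    have h' := CfsgLib.Blocks.memLocalIdeal_neg h
    convert h' using 1
    push_cast
    ring
  obtain ⟨k, hk⟩ := hdvd
  have hgne : g ≠ 1 := fun e => by
    rw [e, orderOf_one] at hg
    have := Nat.one_lt_pow i.succ_ne_zero hp.one_lt
    rw [← hg] at this
    exact lt_irrefl 1 this
  have hp1 : (1 : ℤ) ≤ p := by exact_mod_cast hp.pos
  have hbu : (p : ℤ) * u + t ≤ n + u := by exact_mod_cast hsum
  have hne : (t : ℤ) - u ≠ n := fun e => hgne (hf g (by rw [hn, hv, e, Int.cast_natCast]))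
  have hu0 : (0 : ℤ) ≤ u := Nat.cast_nonneg u
  have ht0 : (0 : ℤ) ≤ t := Nat.cast_nonneg t
  have hle : (t : ℤ) - u ≤ n := by nlinarith
  have hpos : 0 < k := by
    by_contra hk0
    push Not at hk0
    have : (p : ℤ) * k ≤ 0 := mul_nonpos_of_nonneg_of_nonpos (by linarith) hk0
    exact hne (le_antisymm hle (by linarith))
  have hkb : ((p : ℤ) - 1) * k ≤ n := by
    refine le_of_mul_le_mul_left ?_ (by linarith : (0 : ℤ) < p)
    nlinarith [mul_nonneg (sub_nonneg.2 hp1) ht0, mul_le_mul_of_nonneg_left hbu (by linarith : (0 : ℤ) ≤ p)]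
  lift k to ℕ using hpos.le with k'
  refine ⟨k', by exact_mod_cast hpos, ?_, ?_⟩
  · rw [Nat.le_div_iff_mul_le (by have := hp.two_le; omega)]
    have h : (((k' * (p - 1) : ℕ)) : ℤ) ≤ n := by
      rw [Nat.cast_mul, Nat.cast_sub hp.pos, Nat.cast_one]; linarith
    exact_mod_cast h
  · rw [hv]; congr 1; linarith

/-- Schur's bound. -/
theorem factorization_le {p : ℕ} (hp : p.Prime) {χ : G → ℂ} {n : ℕ} (hχ : IsCharacter G χ)
    (hf : ∀ g : G, χ g = χ 1 → g = 1) (hn : χ 1 = n) {r : ℕ} (hr0 : 0 < r) (hr : ¬ p ∣ r)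
    (hrat : ∀ g : G,
      χ g ∈ IntermediateField.adjoin ℚ ({Complex.exp (2 * Real.pi * Complex.I / r)} : Set ℂ)) :
    (Nat.card G).factorization p ≤ ∑ i ∈ Finset.range (n + 1), n / ((p - 1) * p ^ i) := by
  classical
  haveI : Fact p.Prime := ⟨hp⟩
  obtain ⟨P⟩ : Nonempty (Sylow p G) := inferInstance
  haveI : Fintype (P : Subgroup G) := Fintype.ofFinite _
  set K := n / (p - 1)
  set A : Finset ℕ := (Finset.Icc 1 K).filter
    fun k => ∃ g : G, χ g = (((n : ℤ) - p * k : ℤ) : ℂ)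
  set q : ℤ[X] := ∏ k ∈ A, (X - C ((n : ℤ) - p * k))
  have hzero : ∀ x : (P : Subgroup G), x ≠ 1 → aeval (χ x) q = 0 := by
    intro x hx
    obtain ⟨i, hi⟩ := IsPGroup.iff_orderOf.1 P.isPGroup' x
    rcases i with _ | i
    · rw [pow_zero, orderOf_eq_one_iff] at hi; exact absurd hi hx
    rw [← Subgroup.orderOf_coe] at hi
    obtain ⟨k, h1, h2, h3⟩ := exists_value hp hχ hf hn hr0 hr hrat hi
    simp only [q, map_prod]
    refine Finset.prod_eq_zero (Finset.mem_filter.2 ⟨Finset.mem_Icc.2 ⟨h1, h2⟩, x, h3⟩) ?_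
    rw [map_sub, aeval_X, eq_intCast C, map_intCast, h3, sub_self]
  have hsum : ∑ x : (P : Subgroup G), aeval (χ x) q = ((∏ k ∈ A, p * k : ℕ) : ℂ) := by
    rw [Finset.sum_eq_single (1 : (P : Subgroup G)) (fun x _ hx => hzero x hx)
      (fun h => absurd (Finset.mem_univ _) h), Subgroup.coe_one, hn]
    simp only [q, map_prod]
    push_cast
    refine Finset.prod_congr rfl fun k _ => ?_
    rw [map_sub, aeval_X, aeval_C, algebraMap_int_eq, eq_intCast]
    push_cast
    ring
  have hres : IsCharacter (P : Subgroup G) (fun x : (P : Subgroup G) => χ x) :=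
    isCharacter_restrict hχ _
  choose c hc using fun j : ℕ => exists_nat_classInner (isCharacter_pow hres j) (oneChar _)
  have hpw : ∀ j : ℕ, ∑ x : (P : Subgroup G), χ x ^ j = (Nat.card (P : Subgroup G) : ℂ) * c j := by
    intro j
    rw [← hc j, classInner, ← mul_assoc, mul_inv_cancel₀ natCard_ne_zero, one_mul]
    simp
  have hdvd : Nat.card (P : Subgroup G) ∣ ∏ k ∈ A, p * k := by
    rw [← Int.natCast_dvd_natCast]
    refine ⟨∑ j ∈ Finset.range (q.natDegree + 1), q.coeff j * (c j : ℤ), ?_⟩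
    apply Int.cast_injective (α := ℂ)
    rw [Int.cast_natCast, ← hsum, Int.cast_mul, Int.cast_natCast, Int.cast_sum]
    simp only [aeval_eq_sum_range, zsmul_eq_mul, Int.cast_mul, Int.cast_natCast]
    rw [Finset.sum_comm, Finset.mul_sum]
    refine Finset.sum_congr rfl fun j _ => ?_
    rw [← Finset.mul_sum, hpw]
    ring
  have hdvd2 : ∏ k ∈ A, p * k ∣ p ^ K * K.factorial := by
    refine (Finset.prod_dvd_prod_of_subset _ _ _ (Finset.filter_subset _ _)).trans ?_
    rw [Finset.prod_mul_distrib, Finset.prod_const, Nat.card_Icc, Nat.add_sub_cancel,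
      ← Finset.Ico_add_one_right_eq_Icc, Finset.prod_Ico_id_eq_factorial]
  have h := hdvd.trans hdvd2
  rw [P.card_eq_multiplicity, hp.pow_dvd_iff_le_factorization
    (mul_ne_zero (pow_ne_zero _ hp.ne_zero) K.factorial_ne_zero), Nat.factorization_mul
    (pow_ne_zero _ hp.ne_zero) K.factorial_ne_zero, Finsupp.add_apply, hp.factorization_pow,
    Finsupp.single_eq_same] at h
  refine h.trans (le_of_eq ?_)
  rw [Finset.range_eq_Ico, Finset.sum_eq_sum_Ico_succ_bot (Nat.succ_pos n),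
    Nat.factorization_factorial hp (b := n + 1) (lt_of_le_of_lt
      ((Nat.log_le_self p K).trans (Nat.div_le_self n (p - 1))) (Nat.lt_succ_self n))]
  simp only [pow_zero, mul_one, K, Nat.div_div_eq_div_mul, zero_add]

end CfsgLib.SchurBound
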